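import Mathlib
import Groth.Agent.Lib.Helper8.SmoothNormalRing
import Groth.Agent.Lib.Helper8.GNHens.G1

namespace Groth.Agent.H8.EtDed

universe u

open Groth.Agent.H8.GNorm Groth.Agent.H8.GNHens

section
variable (A B : Type u) [CommRing A] [IsDedekindDomain A] [CommRing B] [Algebra A B]
  [Algebra.Etale A B]

include A in
theorem mem_minimalPrimes_or_isMaximal (q : Ideal B) [q.IsPrime] :
    q ∈ minimalPrimes B ∨ q.IsMaximal := by
  by_cases h : q.under A = ⊥
  · left
    obtain ⟨P, hPmin, hPq⟩ := Ideal.exists_minimalPrimes_le (bot_le : (⊥ : Ideal B) ≤ q)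
    haveI : P.IsPrime := hPmin.1.1
    have h2 : P.under A = q.under A := by
      rw [h, eq_bot_iff, ← h]
      exact Ideal.comap_mono hPq
    have := Algebra.QuasiFinite.eq_of_le_of_under_eq (R := A) P q hPq h2
    rw [← this]
    exact hPmin
  · right
    haveI hpm : (q.under A).IsMaximal := Ideal.IsPrime.isMaximal inferInstance h
    obtain ⟨M, hM, hqM⟩ := Ideal.exists_le_maximal q (Ideal.IsPrime.ne_top inferInstance)
    haveI := hM.isPrime
    have h2 : q.under A = M.under A :=
      hpm.eq_of_le (Ideal.IsPrime.ne_top inferInstance) (Ideal.comap_mono hqM)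
    have := Algebra.QuasiFinite.eq_of_le_of_under_eq (R := A) q M hqM h2
    rw [this]
    exact hM

include A in
theorem normalLoc : NormalLoc B := fun q _ =>
  Groth.Agent.H8.SmNR.normal_localization_of_smooth_domain A B q

end

end Groth.Agent.H8.EtDed
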